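import Groth.Agent.RedRankLib.CommRel
import Groth.Agent.BorelLib.MaxTor
import Groth.Agent.GrpFieldLib.Identity

/-!
Maximal tori of smooth affine groups have the greatest rank.
-/

set_option autoImplicit false
set_option backward.isDefEq.respectTransparency false

noncomputable section

universe u

open CategoryTheory CategoryTheory.Limits MonoidalCategory CartesianMonoidalCategory AlgebraicGeometry CoactBr
open scoped MonObj

attribute [-instance] CategoryTheory.Hom.commGroup

namespace MaxTorusRank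

open Groth.Agent
open Groth.Agent.RedRank (Has)

variable {S : Scheme.{u}} {K : Type u} [Field K] [IsAlgClosed K]

theorem isIso_geomPt (s : ↥(Spec (CommRingCat.of K))) : IsIso (Red.geomPt s) := by
  let X := Spec (CommRingCat.of K)
  haveI : Subsingleton ↥X := inferInstanceAs (Subsingleton (PrimeSpectrum K))
  haveI : IsClosedImmersion (X.fromSpecResidueField s) :=
    isClosed_singleton_iff_isClosedImmersion.1 (by
      have hu : ({s} : Set ↥X) = Set.univ := Set.eq_univ_of_forall fun z => Subsingleton.elim z s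
      rw [hu]
      exact isClosed_univ)
  haveI : Surjective (X.fromSpecResidueField s) :=
    ⟨fun z => ⟨IsLocalRing.closedPoint _, Subsingleton.elim _ _⟩⟩
  haveI hr : IsIso (X.fromSpecResidueField s) := isIso_of_isClosedImmersion_of_surjective _
  obtain ⟨φ, hφ⟩ : ∃ φ, Spec.map φ = X.fromSpecResidueField s := ⟨_, Spec.map_preimage _⟩
  haveI : IsIso (Spec.map φ) := hφ ▸ hr
  haveI : IsIso (Scheme.Spec.map φ.op) := ‹IsIso (Spec.map φ)›
  haveI : IsIso φ.op := isIso_of_reflects_iso φ.op Scheme.Spec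
  haveI : IsIso φ := isIso_of_op φ
  haveI : IsAlgClosed (X.residueField s) :=
    IsAlgClosed.of_ringEquiv K _ (asIso φ).commRingCatIsoToRingEquiv
  have hb : Function.Bijective (algebraMap (X.residueField s) (AlgebraicClosure (X.residueField s))) :=
    IsAlgClosed.algebraMap_bijective_of_isIntegral
  haveI : IsIso (CommRingCat.ofHom (algebraMap (X.residueField s) (AlgebraicClosure (X.residueField s)))) :=
    (ConcreteCategory.isIso_iff_bijective _).2 hb
  refine @IsIso.comp_isIso _ _ _ _ _ _ _ ?_ hr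
  exact inferInstanceAs (IsIso (Spec.map _))

theorem isMaxTorus_of_isMaximalTorus {G T : Over (Spec (CommRingCat.of K))} [GrpObj G] [GrpObj T] {i : T ⟶ G}
    (h : Red.IsMaximalTorus i) : AGF.IsMaxTorus i := by
  obtain ⟨hi, hm, hT, hmax⟩ := h
  refine ⟨hi, hm, hT, fun T' _ j _ _ f hT' hf => ?_⟩
  let s₀ : ↥(Spec (CommRingCat.of K)) := IsLocalRing.closedPoint K
  let g := Red.geomPt s₀
  haveI : IsIso g := isIso_geomPt s₀
  haveI : IsMonHom (M := Red.bc g T') (N := Red.bc g G) ((Over.pullback g).map j) := DiagRep.isMonHom_bc_map g j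
  haveI : Mono ((Over.pullback g).map j) := by
    haveI : (Over.pullback g).IsRightAdjoint := (Over.mapPullbackAdj g).isRightAdjoint
    infer_instance
  haveI := hmax s₀ (Red.bc g T') ((Over.pullback g).map j) ((Over.pullback g).map f)
    (RedRank.isTorus_bc hT' g) (by rw [← Functor.map_comp, hf])
  haveI : IsIso ((Over.pullback (inv g) ).map ((Over.pullback g).map f)) := inferInstance
  have e : Over.pullback g ⋙ Over.pullback (inv g) ≅ 𝟭 _ :=
    (Over.pullbackComp (inv g) g).symm ≪≫ eqToIso (congrArg (fun h => Over.pullback h) (IsIso.inv_hom_id g)) ≪≫ Over.pullbackId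
  exact (NatIso.isIso_map_iff e f).1 ‹_›

theorem isMonHom_pt_comp {G H : Over (Spec (CommRingCat.of K))} [GrpObj G] [GrpObj H] (j : H ⟶ G) [IsMonHom j]
    (g : 𝟙_ (Over (Spec (CommRingCat.of K))) ⟶ H) {T : Over (Spec (CommRingCat.of K))} (a : T ⟶ H) :
    AGF.conjBy g a ≫ j = AGF.conjBy (g ≫ j) (a ≫ j) := by
  simp only [AGF.conjBy, MonObj.mul_comp, GrpObj.inv_comp, Category.assoc]

/-- Conjugacy of maximal tori, without connectedness. -/
theorem exists_conj {G T T' : Over (Spec (CommRingCat.of K))} [GrpObj G] [GrpObj T] [GrpObj T'] [IsAffine G.left]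
    [Smooth G.hom] {iT : T ⟶ G} {iT' : T' ⟶ G} (hT : AGF.IsMaxTorus iT) (hT' : AGF.IsMaxTorus iT') :
    ∃ (g : 𝟙_ (Over (Spec (CommRingCat.of K))) ⟶ G) (f : T ≅ T'), f.hom ≫ iT' = AGF.conjBy g iT := by
  obtain ⟨G₀, _, j, hj, hjc, hjf, hr, hgi, -⟩ := GrpField.exists_identity_component (G := G)
  haveI := hj; haveI := hjc; haveI := hjf; haveI := hgi
  haveI : IsAffine G₀.left := isAffine_of_isAffineHom j.left
  haveI : IsLocallyNoetherian G.left := LocallyOfFiniteType.isLocallyNoetherian G.hom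
  haveI : LocallyOfFinitePresentation j.left := LocallyOfFinitePresentation.iff_locallyOfFiniteType.2 inferInstance
  haveI : IsOpenImmersion j.left := IsOpenImmersion.of_flat_of_mono _
  haveI : Smooth G₀.hom := by rw [← Over.w j]; infer_instance
  haveI : Mono j := Over.mono_of_mono_left j
  haveI : IrreducibleSpace G₀.left := GeometricallyIrreducible.irreducibleSpace_of_subsingleton G₀.hom
  haveI : ConnectedSpace G₀.left := inferInstance
  have hfac : ∀ {T : Over (Spec (CommRingCat.of K))} [GrpObj T] {i : T ⟶ G}, AGF.IsMaxTorus i →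
      ∃ k : T ⟶ G₀, k ≫ j = i ∧ AGF.IsMaxTorus k := by
    intro T _ i h
    obtain ⟨hi, hm, htor, hmax⟩ := h
    haveI := hi; haveI := hm
    obtain ⟨r, w, -, -, -, hirr, -, -⟩ := BorelLib.torus_facts htor
    have hsub : Set.range i.left ⊆ Set.range j.left := by
      rw [hr, ← GrpField.connectedComponent_unit]
      refine (isPreconnected_range i.left.continuous).subset_connectedComponent ?_
      exact ⟨(η[T] : 𝟙_ (Over (Spec (CommRingCat.of K))) ⟶ T).left (IsLocalRing.closedPoint K), by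
        rw [← Scheme.Hom.comp_apply, ← Over.comp_left, IsMonHom.one_hom]; rfl⟩
    let k : T ⟶ G₀ := Over.homMk (IsOpenImmersion.lift j.left i.left hsub) (by
      rw [← Over.w j, ← Category.assoc, IsOpenImmersion.lift_fac, Over.w])
    have hk : k ≫ j = i := Over.OverMorphism.ext (IsOpenImmersion.lift_fac _ _ _)
    haveI : IsMonHom (k ≫ j) := hk.symm ▸ hi
    haveI : Mono (k ≫ j) := hk.symm ▸ hm
    haveI : Mono k := mono_of_mono k j
    refine ⟨k, hk, DiagRep.isMonHom_of_comp_mono k j, inferInstance, htor, fun T' _ j' _ _ f hT' hf => ?_⟩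
    exact hmax T' (j' ≫ j) f hT' (by rw [reassoc_of% hf, hk])
  obtain ⟨k, hk, hkm⟩ := hfac hT
  obtain ⟨k', hk', hkm'⟩ := hfac hT'
  obtain ⟨A, _, _, v, hv, hA, -⟩ := BorelLib.exists_setup G₀
  haveI := hv; haveI := hA
  haveI := hkm.1; haveI := hkm.2.1; haveI := hkm'.1; haveI := hkm'.2.1
  obtain ⟨g, f, hf⟩ : ∃ (g : 𝟙_ (Over (Spec (CommRingCat.of K))) ⟶ G₀) (f : T ≅ T'),
      f.hom ≫ k' = AGF.conjBy g k := by
    obtain ⟨hc, hrd⟩ := BorelLib.facts_torus v (iT := k) hkm.2.1 hkm.2.2.1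
    obtain ⟨hc', hrd'⟩ := BorelLib.facts_torus v (iT := k') hkm'.2.1 hkm'.2.2.1
    haveI := hc; haveI := hrd; haveI := hc'; haveI := hrd'
    have hKc : @IsClosed _ BorelLib.pTop ((⊤ : Subgroup (BorelLib.Pt K A)) : Set (BorelLib.Pt K A)) := by
      rw [Subgroup.coe_top]; exact @isClosed_univ _ BorelLib.pTop
    have hK : @_root_.IsPreconnected _ BorelLib.pTop ((⊤ : Subgroup (BorelLib.Pt K A)) : Set (BorelLib.Pt K A)) := by
      rw [Subgroup.coe_top]; exact BorelLib.isPreconnected_univ_of_connected v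
    obtain ⟨U, -, hS, hu⟩ := BorelLib.exists_universal_tor_group hKc hK
    obtain ⟨x, -, hx⟩ := BorelLib.exists_conj_of_universal v hkm hkm' hS hu le_top le_top
    obtain ⟨f, hf⟩ := BorelLib.exists_iso_conj v (i := k) (i' := k') hx
    exact ⟨_, f, hf⟩
  exact ⟨g ≫ j, f, by rw [← hk', ← Category.assoc, hf, isMonHom_pt_comp, hk]⟩

/-- A maximal torus contains a split torus of every rank occurring in the group. -/
theorem has_of_isMaxTorus (G : Over S) [GrpObj G] [IsAffineHom G.hom] [Smooth G.hom]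
    (p : Spec (CommRingCat.of K) ⟶ S) {T : Over (Spec (CommRingCat.of K))} [GrpObj T] {i : T ⟶ Red.bc p G}
    (h : AGF.IsMaxTorus i) {m : ℕ} (hm : Has (Red.bc p G) m) : Has T m := by
  haveI := RedRank.isAffineHom_bc G p
  haveI : Smooth (Red.bc p G).hom := MorphismProperty.pullback_snd (P := @Smooth) _ _ inferInstance
  haveI : IsAffine (Red.bc p G).left := isAffine_of_isAffineHom (Red.bc p G).hom
  obtain ⟨r, i', hi', hmr, hd, -⟩ := RedRank.exists_maximal G p hm
  obtain ⟨g, f, -⟩ := exists_conj h (isMaxTorus_of_isMaximalTorus hi')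
  let e := Scheme.homeoOfIso ((Over.forget _).mapIso f)
  refine RedRank.has_of_torus (𝟙 T) h.2.2.1 ?_
  refine le_trans ?_ (IsHomeomorph.topologicalKrullDim_eq e e.isHomeomorph).ge
  show _ ≤ topologicalKrullDim ↥(Red.DS _ _).left
  rw [hd]
  exact_mod_cast hmr

theorem isMaxTorus_of_forall {G T : Over (Spec (CommRingCat.of K))} [GrpObj G] [GrpObj T]
    (i : T ⟶ G) [IsMonHom i] [Mono i] (hT : Red.IsTorus T) (h : ∀ m, Has G m → Has T m) : AGF.IsMaxTorus i := by
  refine ⟨inferInstance, inferInstance, hT, fun T' _ j _ _ f hT' hf => ?_⟩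
  obtain ⟨r, v, hv, hv', -⟩ := RedRank.exists_torus_rank hT
  obtain ⟨r', v', hw, hw', -⟩ := RedRank.exists_torus_rank hT'
  haveI := hv; haveI := hv'; haveI := hw; haveI := hw'
  haveI : IsMonHom (f ≫ j) := hf.symm ▸ inferInstance
  haveI : Mono (f ≫ j) := hf.symm ▸ inferInstance
  haveI : Mono f := mono_of_mono f j
  haveI : IsMonHom f := DiagRep.isMonHom_of_comp_mono f j
  obtain ⟨q, hq, hqm⟩ := (RedRank.has_iff T r').1
    (h r' ((RedRank.has_iff G r').2 ⟨v'.hom ≫ j, inferInstance, inferInstance⟩))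
  haveI := hq; haveI := hqm
  obtain ⟨hle, hiso⟩ := RedRank.le_and_isIso_of_mono (v.hom ≫ f ≫ v'.inv)
  haveI := hiso (le_antisymm hle (RedRank.le_and_isIso_of_mono (q ≫ v.inv)).1)
  exact IsIso.of_isIso_fac_left (f := v.hom) (g := f) (h := (v.hom ≫ f ≫ v'.inv) ≫ v'.hom) (by simp)

theorem exists_lift_geomPt {L : Type u} [Field L] [IsAlgClosed L] (q : Spec (CommRingCat.of L) ⟶ S) (s : S)
    (hs : q (IsLocalRing.closedPoint L) = s) :
    ∃ g : Spec (CommRingCat.of L) ⟶ Spec (CommRingCat.of (AlgebraicClosure (S.residueField s))),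
      g ≫ Red.geomPt s = q := by
  subst hs
  let φ := S.descResidueField (Scheme.stalkClosedPointTo q)
  letI := φ.hom.toAlgebra
  let σ : AlgebraicClosure (S.residueField (q (IsLocalRing.closedPoint L))) →ₐ[S.residueField
    (q (IsLocalRing.closedPoint L))] L := IsAlgClosed.lift
  refine ⟨Spec.map (CommRingCat.ofHom σ.toRingHom), ?_⟩
  refine Eq.trans ?_ (Scheme.descResidueField_stalkClosedPointTo_fromSpecResidueField L S q)
  refine ((Category.assoc _ _ _).symm.trans (congrArg (· ≫ S.fromSpecResidueField _) ?_))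
  exact (Spec.map_comp _ _).symm.trans (congrArg Spec.map (CommRingCat.hom_ext σ.comp_algebraMap))

/-- The geometric fibres of a torus over a point have one rank. -/
theorem exists_rank {T : Over S} [GrpObj T] (hT : Red.IsTorus T) (s : S) : ∃ r : ℕ,
    ∀ (L : Type u) [Field L] [IsAlgClosed L] (q : Spec (CommRingCat.of L) ⟶ S), q (IsLocalRing.closedPoint L) = s →
      (∀ m, Has (Red.bc q T) m ↔ m ≤ r) ∧ topologicalKrullDim ↥(Red.bc q T).left = r := by
  obtain ⟨r, v, hv, hv', -⟩ := RedRank.exists_torus_rank (RedRank.isTorus_bc hT (Red.geomPt s))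
  haveI := hv; haveI := hv'
  refine ⟨r, fun L _ _ q hq => ?_⟩
  obtain ⟨g, rfl⟩ := exists_lift_geomPt q s hq
  obtain ⟨w, hw, hw'⟩ := TorusField.exists_DS_iso (AlgebraicClosure (S.residueField s)) (Fin r → ℤ)
  obtain ⟨e, he⟩ := RedCharZeroLib.exists_DS_bc g (Fin r → ℤ)
  obtain ⟨w₂, hw₂, hw₂'⟩ := TorusField.exists_DS_iso L (Fin r → ℤ)
  obtain ⟨θ, hθ⟩ := RedCharZeroLib.exists_bc_comp g (Red.geomPt s) T
  haveI := hw; haveI := hw'; haveI := he; haveI := hw₂; haveI := hw₂'; haveI := hθ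
  let a := w.inv ≫ v.hom
  haveI : IsMonHom a := inferInstanceAs (IsMonHom (w.inv ≫ v.hom))
  haveI : IsIso a := inferInstanceAs (IsIso (w.inv ≫ v.hom))
  haveI : IsMonHom (M := Red.bc g (Red.DS _ (Fin r → ℤ))) (N := Red.bc g (Red.bc (Red.geomPt s) T))
      ((Over.pullback g).map a) := DiagRep.isMonHom_bc_map g a
  let c : sp L (RedRank.TA L r) ⟶ Red.bc (g ≫ Red.geomPt s) T := w₂.hom ≫ e.hom ≫ (Over.pullback g).map a ≫ θ.inv
  haveI : IsMonHom θ.inv := inferInstance
  haveI : IsMonHom c := inferInstanceAs (IsMonHom (w₂.hom ≫ e.hom ≫ (Over.pullback g).map a ≫ θ.inv))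
  haveI : IsIso c := inferInstanceAs (IsIso (w₂.hom ≫ e.hom ≫ (Over.pullback g).map a ≫ θ.inv))
  let ε := asIso c
  haveI : IsMonHom ε.hom := inferInstanceAs (IsMonHom c)
  haveI : IsMonHom ε.inv := inferInstance
  refine ⟨fun m => ⟨fun hm => ?_, fun hm => ?_⟩, ?_⟩
  · obtain ⟨j, hj, hjm⟩ := (RedRank.has_iff _ m).1 hm
    haveI := hj; haveI := hjm
    exact (RedRank.le_and_isIso_of_mono (j ≫ ε.inv)).1
  · obtain ⟨j, hj, hjm⟩ := RedRank.exists_subtorus (K := L) hm
    haveI := hj; haveI := hjm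
    exact (RedRank.has_iff _ m).2 ⟨j ≫ ε.hom, inferInstance, inferInstance⟩
  · let h := Scheme.homeoOfIso ((Over.forget _).mapIso ε)
    rw [← RedRank.topologicalKrullDim_sp_TA (K := L) r]
    exact (IsHomeomorph.topologicalKrullDim_eq h h.isHomeomorph).symm

/-- Containing a split torus of given rank depends only on the point. -/
theorem has_congr (G : Over S) [GrpObj G] [IsAffineHom G.hom] [Smooth G.hom] {L L' : Type u} [Field L]
    [IsAlgClosed L] [Field L'] [IsAlgClosed L'] (q : Spec (CommRingCat.of L) ⟶ S) (q' : Spec (CommRingCat.of L') ⟶ S)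
    (h : q (IsLocalRing.closedPoint L) = q' (IsLocalRing.closedPoint L')) (m : ℕ) :
    Has (Red.bc q G) m ↔ Has (Red.bc q' G) m := by
  obtain ⟨U, hU⟩ := RedRank.exists_open G m
  rw [hU L q, hU L' q', h]

theorem has_bc_bc_iff {P : Scheme.{u}} (G : Over S) [GrpObj G] (f : P ⟶ S) {L : Type u} [Field L]
    (q : Spec (CommRingCat.of L) ⟶ P) (m : ℕ) : Has (Red.bc q (Red.bc f G)) m ↔ Has (Red.bc (q ≫ f) G) m := by
  obtain ⟨θ, hθ⟩ := RedCharZeroLib.exists_bc_comp q f G
  haveI := hθ
  haveI : IsMonHom θ.inv := inferInstance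
  exact ⟨RedRank.has_mono θ.inv, RedRank.has_mono θ.hom⟩

variable {G T : Over S} [GrpObj G] [GrpObj T]

/-- A maximal torus has the greatest rank in every geometric fibre. -/
theorem has_of_isMaximalTorus [IsAffineHom G.hom] [Smooth G.hom] {i : T ⟶ G} (h : Red.IsMaximalTorus i)
    (q : Spec (CommRingCat.of K) ⟶ S) {m : ℕ} (hm : Has (Red.bc q G) m) : Has (Red.bc q T) m := by
  obtain ⟨hi, hmono, hT, hmax⟩ := h
  haveI := hi; haveI := hmono
  obtain ⟨r, hr⟩ := exists_rank hT (q (IsLocalRing.closedPoint K))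
  let s := q (IsLocalRing.closedPoint K)
  have hpt : Red.geomPt s (IsLocalRing.closedPoint (AlgebraicClosure (S.residueField s))) = s :=
    RedRank.geomPt_apply s
  haveI : IsMonHom (M := Red.bc (Red.geomPt s) T) (N := Red.bc (Red.geomPt s) G)
      ((Over.pullback (Red.geomPt s)).map i) := DiagRep.isMonHom_bc_map _ i
  haveI : Mono ((Over.pullback (Red.geomPt s)).map i) := by
    haveI : (Over.pullback (Red.geomPt s)).IsRightAdjoint := (Over.mapPullbackAdj _).isRightAdjoint
    infer_instance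
  have hM : AGF.IsMaxTorus (G := Red.geomFibre s G) ((Over.pullback (Red.geomPt s)).map i) :=
    ⟨inferInstance, inferInstance, RedRank.isTorus_bc hT _, fun T' _ j _ _ f h1 h2 => hmax s T' j f h1 h2⟩
  exact ((hr K q rfl).1 m).2 (((hr _ (Red.geomPt s) hpt).1 m).1
    (has_of_isMaxTorus G (Red.geomPt s) hM ((has_congr G q (Red.geomPt s) hpt.symm m).1 hm)))

/-- A subtorus of greatest rank in every geometric fibre is maximal. -/
theorem isMaximalTorus_of_forall {i : T ⟶ G} [IsMonHom i] [Mono i] (hT : Red.IsTorus T)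
    (h : ∀ (s : S) (m : ℕ), Has (Red.geomFibre s G) m → Has (Red.geomFibre s T) m) : Red.IsMaximalTorus i := by
  refine ⟨inferInstance, inferInstance, hT, fun s T' _ j _ _ f hT' hf => ?_⟩
  haveI : IsMonHom (M := Red.bc (Red.geomPt s) T) (N := Red.bc (Red.geomPt s) G)
      ((Over.pullback (Red.geomPt s)).map i) := DiagRep.isMonHom_bc_map _ i
  haveI : Mono ((Over.pullback (Red.geomPt s)).map i) := by
    haveI : (Over.pullback (Red.geomPt s)).IsRightAdjoint := (Over.mapPullbackAdj _).isRightAdjoint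
    infer_instance
  exact (isMaxTorus_of_forall (G := Red.geomFibre s G) ((Over.pullback (Red.geomPt s)).map i)
    (RedRank.isTorus_bc hT _) (h s)).2.2.2 T' j f hT' hf

/-- The reductive rank is the greatest rank of a subtorus. -/
theorem exists_nat_of_hasRedRank [IsAffineHom G.hom] [Smooth G.hom] {s : S} {r : WithBot ℕ∞}
    (h : SGA3x.HasRedRank G s r) : ∃ n : ℕ, r = n ∧ ∀ m, Has (Red.geomFibre s G) m ↔ m ≤ n := by
  obtain ⟨T', _, i, hi, rfl⟩ := h
  have hM := isMaxTorus_of_isMaximalTorus hi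
  obtain ⟨n, v, hv, hv', hd⟩ := RedRank.exists_torus_rank hM.2.2.1
  haveI := hv; haveI := hv'; haveI := hM.1; haveI := hM.2.1
  refine ⟨n, hd, fun m => ⟨fun hm => ?_, fun hm => RedRank.has_of_torus i hM.2.2.1 (by rw [hd]; exact_mod_cast hm)⟩⟩
  obtain ⟨j, hj, hjm⟩ := (RedRank.has_iff _ m).1 (has_of_isMaxTorus G (Red.geomPt s) hM hm)
  haveI := hj; haveI := hjm
  exact (RedRank.le_and_isIso_of_mono (j ≫ v.inv)).1

theorem hasRedRank_of_forall [IsAffineHom G.hom] [Smooth G.hom] {s : S} {n : ℕ}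
    (h : ∀ m, Has (Red.geomFibre s G) m ↔ m ≤ n) : SGA3x.HasRedRank G s (n : WithBot ℕ∞) := by
  obtain ⟨r, i, hi, hnr, hd, -⟩ := RedRank.exists_maximal G (Red.geomPt s) ((h n).2 le_rfl)
  have hH : SGA3x.HasRedRank G s (r : WithBot ℕ∞) := ⟨_, _, i, hi, hd⟩
  obtain ⟨r', hr', hall⟩ := exists_nat_of_hasRedRank hH
  obtain rfl : r' = n := le_antisymm ((h r').1 ((hall r').2 le_rfl)) ((hall n).1 ((h n).2 le_rfl))
  exact hr' ▸ hH

end MaxTorusRank
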