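import Groth.Agent.MaxTorusRankLib.Nearby

/-!
Comparison of centralisers.
-/

set_option autoImplicit false
set_option backward.isDefEq.respectTransparency false

noncomputable section

universe u

open CategoryTheory CategoryTheory.Limits MonoidalCategory CartesianMonoidalCategory AlgebraicGeometry CoactBr
open scoped MonObj

attribute [-instance] CategoryTheory.Hom.commGroup

namespace MaxTorusRank

variable {S : Scheme.{u}}

/-- An isomorphism moving a subgroup into another maps centraliser into centraliser. -/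
theorem exists_centralizer_map {G G' H H' Z Z' : Over S} [GrpObj G] [GrpObj G'] [GrpObj H] [GrpObj H'] [GrpObj Z]
    [GrpObj Z'] (κ : G ⟶ G') [IsMonHom κ] {i : H ⟶ G} {c : Z ⟶ G} {i' : H' ⟶ G'} {c' : Z' ⟶ G'}
    (h : Red.IsCentralizerOf i c) (h' : Red.IsCentralizerOf i' c')
    (hsub : ∀ (X : Over S) (a : X ⟶ H'), ∃ b : X ⟶ H, (b ≫ i) ≫ κ = a ≫ i') :
    ∃ k : Z ⟶ Z', k ≫ c' = c ≫ κ := by
  refine (h'.2.2 Z (c ≫ κ)).2 fun X x a => ?_
  obtain ⟨b, hb⟩ := hsub X a
  have h1 := congrArg (fun m => m ≫ κ) ((h.2.2 Z c).1 ⟨𝟙 _, Category.id_comp _⟩ X x b)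
  simp only [MonObj.mul_comp] at h1
  rw [hb] at h1
  rw [← Category.assoc x c κ]
  exact h1

attribute [local instance] CoactBr.braidedAlgSpecOf

open Groth.Agent
open Groth.Agent.RedRank (Has)

/-- The centraliser of a local torus of greatest rank has the dimension of the Cartan subgroups. -/
theorem dim_cartan_eq (G : Over S) [GrpObj G] [IsAffineHom G.hom] [Smooth G.hom] {S' : Scheme.{u}} (g : S' ⟶ S)
    {r : ℕ} (i : Red.DS S' (Fin r → ℤ) ⟶ Red.bc g G) [IsMonHom i] [Mono i] {Z : Over S'} [GrpObj Z]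
    {c : Z ⟶ Red.bc g G} (hZ : Red.IsCentralizerOf i c) [LocallyOfFiniteType Z.hom]
    {K : Type u} [Field K] [IsAlgClosed K] (q : Spec (CommRingCat.of K) ⟶ S') (p : Spec (CommRingCat.of K) ⟶ S)
    (hq : q ≫ g = p) (hmax : ∀ m, Has (Red.bc p G) m → m ≤ r)
    {C' : Over (Spec (CommRingCat.of K))} [GrpObj C'] {c' : C' ⟶ Red.bc p G}
    {T' : Over (Spec (CommRingCat.of K))} [GrpObj T'] {i' : T' ⟶ Red.bc p G} (hi' : Red.IsMaximalTorus i')
    (hcent : Red.IsCentralizerOf i' c') :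
    topologicalKrullDim ↥C'.left = topologicalKrullDim ↥(Z.hom.base ⁻¹' {q (IsLocalRing.closedPoint K)}) := by
  subst hq
  obtain ⟨θ, hθ⟩ := RedCharZeroLib.exists_bc_comp q g G
  haveI := hθ
  haveI : IsMonHom θ.inv := inferInstance
  have hqZ := isCentralizerOf_bc hZ q
  haveI := hqZ.1; haveI := hqZ.2.1; haveI := hcent.1; haveI := hcent.2.1
  haveI : IsMonHom (M := Red.bc q (Red.DS S' (Fin r → ℤ))) (N := Red.bc q (Red.bc g G)) ((Over.pullback q).map i) :=
    DiagRep.isMonHom_bc_map q i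
  haveI : Mono ((Over.pullback q).map i) := by
    haveI : (Over.pullback q).IsRightAdjoint := (Over.mapPullbackAdj q).isRightAdjoint
    infer_instance
  let j : Red.bc q (Red.DS S' (Fin r → ℤ)) ⟶ Red.bc (q ≫ g) G := (Over.pullback q).map i ≫ θ.inv
  haveI : IsMonHom j := inferInstanceAs (IsMonHom ((Over.pullback q).map i ≫ θ.inv))
  haveI : Mono j := inferInstanceAs (Mono ((Over.pullback q).map i ≫ θ.inv))
  have hjmax : Red.IsMaximalTorus j :=
    isMaximalTorus_of_top G (q ≫ g) j (RedRank.isTorus_bc (RedRank.isTorus_DS S' r) q)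
      fun m hm => (has_bc_DS_iff q r m).2 (hmax m hm)
  haveI := RedRank.isAffineHom_bc G (q ≫ g)
  haveI : Smooth (Red.bc (q ≫ g) G).hom := MorphismProperty.pullback_snd (P := @Smooth) _ _ inferInstance
  haveI : IsAffine (Red.bc (q ≫ g) G).left := isAffine_of_isAffineHom (Red.bc (q ≫ g) G).hom
  obtain ⟨gK, f, hf⟩ := exists_conj (isMaxTorus_of_isMaximalTorus hjmax) (isMaxTorus_of_isMaximalTorus hi')
  rw [DiagRep.conjBy_eq_comp] at hf
  haveI := DiagRep.isMonHom_conjBy gK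
  let κ : Red.bc q (Red.bc g G) ⟶ Red.bc (q ≫ g) G := θ.inv ≫ AGF.conjBy gK (𝟙 (Red.bc (q ≫ g) G))
  haveI : IsIso κ := inferInstanceAs (IsIso (θ.inv ≫ AGF.conjBy gK (𝟙 _)))
  haveI : IsMonHom κ := inferInstanceAs (IsMonHom (θ.inv ≫ AGF.conjBy gK (𝟙 _)))
  haveI : IsMonHom (asIso κ).hom := inferInstanceAs (IsMonHom κ)
  haveI : IsMonHom (inv κ) := inferInstanceAs (IsMonHom (asIso κ).inv)
  have hfκ : (Over.pullback q).map i ≫ κ = f.hom ≫ i' := by
    rw [hf]
    simp [κ, j]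
  obtain ⟨k₁, hk₁⟩ := exists_centralizer_map κ hqZ hcent fun X a => ⟨a ≫ f.inv, by simp [hfκ]⟩
  obtain ⟨k₂, hk₂⟩ := exists_centralizer_map (inv κ) hcent hqZ fun X a => ⟨a ≫ f.hom, by
    rw [Category.assoc a, ← hfκ]; simp⟩
  let ε : Red.bc q Z ≅ C' :=
    { hom := k₁
      inv := k₂
      hom_inv_id := by
        rw [← cancel_mono ((Over.pullback q).map c), Category.assoc, hk₂, ← Category.assoc, hk₁, Category.assoc,
          IsIso.hom_inv_id, Category.comp_id, Category.id_comp]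
      inv_hom_id := by
        rw [← cancel_mono c', Category.assoc, hk₁, ← Category.assoc, hk₂, Category.assoc, IsIso.inv_hom_id,
          Category.comp_id, Category.id_comp] }
  rw [← dim_bc_eq Z q]
  let e := Scheme.homeoOfIso ((Over.forget _).mapIso ε.symm)
  exact IsHomeomorph.topologicalKrullDim_eq e e.isHomeomorph

/-- Centralisers of two maximal tori are isomorphic. -/
theorem exists_iso_centralizers {K : Type u} [Field K] [IsAlgClosed K] {G T T' C C' : Over (Spec (CommRingCat.of K))}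
    [GrpObj G] [GrpObj T] [GrpObj T'] [GrpObj C] [GrpObj C'] [IsAffine G.left] [Smooth G.hom]
    {i : T ⟶ G} {i' : T' ⟶ G} {c : C ⟶ G} {c' : C' ⟶ G} (hi : AGF.IsMaxTorus i) (hi' : AGF.IsMaxTorus i')
    (hC : Red.IsCentralizerOf i c) (hC' : Red.IsCentralizerOf i' c') : Nonempty (C ≅ C') := by
  haveI := hC.2.1; haveI := hC'.2.1
  obtain ⟨gK, f, hf⟩ := exists_conj hi hi'
  rw [DiagRep.conjBy_eq_comp] at hf
  haveI := DiagRep.isMonHom_conjBy gK
  let κ : G ⟶ G := AGF.conjBy gK (𝟙 G)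
  haveI : IsIso κ := inferInstanceAs (IsIso (AGF.conjBy gK (𝟙 G)))
  haveI : IsMonHom κ := inferInstanceAs (IsMonHom (AGF.conjBy gK (𝟙 G)))
  haveI : IsMonHom (asIso κ).hom := inferInstanceAs (IsMonHom κ)
  haveI : IsMonHom (inv κ) := inferInstanceAs (IsMonHom (asIso κ).inv)
  have hfκ : i ≫ κ = f.hom ≫ i' := hf.symm
  obtain ⟨k₁, hk₁⟩ := exists_centralizer_map κ hC hC' fun X a => ⟨a ≫ f.inv, by simp [hfκ]⟩
  obtain ⟨k₂, hk₂⟩ := exists_centralizer_map (inv κ) hC' hC fun X a => ⟨a ≫ f.hom, by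
    rw [Category.assoc a, ← hfκ]; simp⟩
  exact ⟨{
    hom := k₁
    inv := k₂
    hom_inv_id := by
      rw [← cancel_mono c, Category.assoc, hk₂, ← Category.assoc, hk₁, Category.assoc, IsIso.hom_inv_id,
        Category.comp_id, Category.id_comp]
    inv_hom_id := by
      rw [← cancel_mono c', Category.assoc, hk₁, ← Category.assoc, hk₂, Category.assoc, IsIso.inv_hom_id,
        Category.comp_id, Category.id_comp] }⟩

end MaxTorusRank
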