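import Groth.Agent.MaxTorusRankLib.Etale
import Groth.Agent.S3006
import Groth.Agent.S3022
import Groth.Agent.FibDimLib.FieldExt

/-!
Tori near a given fibre and their centralisers.
-/

set_option autoImplicit false
set_option backward.isDefEq.respectTransparency false

noncomputable section

universe u

open CategoryTheory CategoryTheory.Limits MonoidalCategory CartesianMonoidalCategory AlgebraicGeometry CoactBr
open scoped MonObj

attribute [-instance] CategoryTheory.Hom.commGroup

namespace MaxTorusRank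

open Groth.Agent
open Groth.Agent.RedRank (Has)

attribute [local instance] CoactBr.braidedAlgSpecOf

variable {S : Scheme.{u}} {K : Type u} [Field K] [IsAlgClosed K]

/-- The centraliser commutes with base change. -/
theorem isCentralizerOf_bc {G H Z : Over S} [GrpObj G] [GrpObj H] [GrpObj Z] {i : H ⟶ G} {c : Z ⟶ G}
    (h : Red.IsCentralizerOf i c) {P : Scheme.{u}} (p : P ⟶ S) :
    Red.IsCentralizerOf (G := Red.bc p G) (H := Red.bc p H) (Z := Red.bc p Z) ((Over.pullback p).map i)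
      ((Over.pullback p).map c) := by
  obtain ⟨hc, hm, hz⟩ := h
  haveI := hc; haveI := hm
  refine ⟨DiagRep.isMonHom_bc_map p c, ?_, fun X g => ?_⟩
  · haveI : (Over.pullback p).IsRightAdjoint := (Over.mapPullbackAdj p).isRightAdjoint
    infer_instance
  obtain ⟨g₀, rfl⟩ := ((Over.mapPullbackAdj p).homEquiv X G).surjective g
  constructor
  · rintro ⟨z, hzg⟩ X' x h'
    obtain ⟨z₀, rfl⟩ := ((Over.mapPullbackAdj p).homEquiv X Z).surjective z
    rw [← Adjunction.homEquiv_naturality_right] at hzg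
    obtain ⟨h₀, rfl⟩ := ((Over.mapPullbackAdj p).homEquiv X' H).surjective h'
    rw [← Adjunction.homEquiv_naturality_left, ← Adjunction.homEquiv_naturality_right,
      ← AlgGrp.Action.homEquiv_mul, ← AlgGrp.Action.homEquiv_mul,
      (hz _ g₀).1 ⟨z₀, ((Over.mapPullbackAdj p).homEquiv X G).injective hzg⟩ _ ((Over.map p).map x) h₀]
  · intro hall
    obtain ⟨z, hzg⟩ := (hz _ g₀).2 fun X' x h' => by
      let X'' : Over P := Over.mk (x.left ≫ X.hom)
      let ε : (Over.map p).obj X'' ⟶ X' := Over.homMk (𝟙 _) (by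
        show 𝟙 _ ≫ X'.hom = (x.left ≫ X.hom) ≫ p
        rw [Category.id_comp, Category.assoc, ← Over.w x]
        rfl)
      haveI : IsIso ((Over.forget _).map ε) := inferInstanceAs (IsIso (𝟙 _))
      haveI : IsIso ε := isIso_of_reflects_iso _ (Over.forget _)
      let x₀ : X'' ⟶ X := Over.homMk x.left
      have e' : ε ≫ x = (Over.map p).map x₀ := Over.OverMorphism.ext (Category.id_comp _)
      rw [← cancel_epi ε, MonObj.comp_mul, MonObj.comp_mul, ← Category.assoc ε x, e', ← Category.assoc]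
      refine ((Over.mapPullbackAdj p).homEquiv X'' G).injective ?_
      rw [AlgGrp.Action.homEquiv_mul, AlgGrp.Action.homEquiv_mul, Adjunction.homEquiv_naturality_left,
        Adjunction.homEquiv_naturality_right]
      exact hall X'' x₀ ((Over.mapPullbackAdj p).homEquiv X'' H (ε ≫ h'))
    exact ⟨(Over.mapPullbackAdj p).homEquiv X Z z, by rw [← Adjunction.homEquiv_naturality_right, hzg]⟩

/-- Containing a split torus passes to base changes. -/
theorem has_bc {G : Over S} [GrpObj G] {P : Scheme.{u}} (p : P ⟶ S) {n : ℕ} (h : Has G n) : Has (Red.bc p G) n := by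
  obtain ⟨i, hi, hm⟩ := h
  haveI := hi; haveI := hm
  obtain ⟨e, he⟩ := RedCharZeroLib.exists_DS_bc p (Fin n → ℤ)
  haveI := he
  haveI : IsMonHom (M := Red.bc p (Red.DS S (Fin n → ℤ))) (N := Red.bc p G) ((Over.pullback p).map i) :=
    DiagRep.isMonHom_bc_map p i
  haveI : Mono ((Over.pullback p).map i) := by
    haveI : (Over.pullback p).IsRightAdjoint := (Over.mapPullbackAdj p).isRightAdjoint
    infer_instance
  exact ⟨e.hom ≫ (Over.pullback p).map i, inferInstance, inferInstance⟩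

/-- A subtorus of a fibre receiving every rank is maximal. -/
theorem isMaximalTorus_of_top (G : Over S) [GrpObj G] [IsAffineHom G.hom] [Smooth G.hom]
    (p : Spec (CommRingCat.of K) ⟶ S) {T : Over (Spec (CommRingCat.of K))} [GrpObj T] (i : T ⟶ Red.bc p G)
    [IsMonHom i] [Mono i] (hT : Red.IsTorus T) (h : ∀ m, Has (Red.bc p G) m → Has T m) : Red.IsMaximalTorus i := by
  refine isMaximalTorus_of_forall hT fun s m hm => has_bc (Red.geomPt s) (h m ?_)
  exact (has_congr G (Red.geomPt s ≫ p) p (by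
    rw [Scheme.Hom.comp_apply]
    exact congrArg (fun x => p x) (Subsingleton.elim (α := PrimeSpectrum K) _ _)) m).1
      ((has_bc_bc_iff G p _ m).1 hm)

/-- A smooth affine group has some split subtorus. -/
theorem exists_has (G : Over (Spec (CommRingCat.of K))) [GrpObj G] [IsAffineHom G.hom] : ∃ n, Has G n := by
  obtain ⟨w, hw, -⟩ := TorusField.exists_DS_iso K (Fin 0 → ℤ)
  haveI := hw
  let o : Red.DS (Spec (CommRingCat.of K)) (Fin 0 → ℤ) ⟶ G := 1
  haveI : IsMonHom o := RedRank.isMonHom_of_mul (X := Red.DS (Spec (CommRingCat.of K)) (Fin 0 → ℤ)) (Y := G) o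
    fun Z x y => by simp [o, MonObj.comp_one]
  haveI hu : IsMonHom (w.hom ≫ o) := inferInstance
  obtain ⟨r, q, i, -, hi, hm, -⟩ := RedRank.exists_image_torus (w.hom ≫ o)
  exact ⟨r, (RedRank.has_iff G r).2 ⟨i, hi, hm⟩⟩

/-- The dimension of a geometric fibre is that of the fibre. -/
theorem dim_bc_eq (Z : Over S) [LocallyOfFiniteType Z.hom] (q : Spec (CommRingCat.of K) ⟶ S) :
    topologicalKrullDim ↥(Red.bc q Z).left =
      topologicalKrullDim ↥(Z.hom.base ⁻¹' {q (IsLocalRing.closedPoint K)}) := by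
  haveI : Subsingleton ↥(Spec (CommRingCat.of K)) := inferInstanceAs (Subsingleton (PrimeSpectrum K))
  let z : ↥(Spec (CommRingCat.of K)) := IsLocalRing.closedPoint K
  let f' : pullback Z.hom q ⟶ Spec (CommRingCat.of K) := pullback.snd Z.hom q
  have hu : f' ⁻¹' {z} = Set.univ := Set.eq_univ_of_forall fun x => Subsingleton.elim (f' x) z
  let e : (f'.fiber z) ≃ₜ ↥(pullback Z.hom q) :=
    (f'.fiberHomeo z).trans ((Homeomorph.setCongr hu).trans (Homeomorph.Set.univ _))
  refine ((IsHomeomorph.topologicalKrullDim_eq e e.isHomeomorph).symm.trans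
    (FibDimLib.topologicalKrullDim_fiber_baseChange (IsPullback.of_hasPullback Z.hom q) z)).trans ?_
  exact IsHomeomorph.topologicalKrullDim_eq _ (Z.hom.fiberHomeo _).isHomeomorph

/-- Every subtorus lies in a maximal one. -/
theorem exists_maxTorus_ge (G : Over (Spec (CommRingCat.of K))) [GrpObj G] [IsAffineHom G.hom]
    [LocallyOfFiniteType G.hom] {n : ℕ} (i : sp K (RedRank.TA K n) ⟶ G) [IsMonHom i] [Mono i] :
    ∃ (r : ℕ) (i' : sp K (RedRank.TA K r) ⟶ G) (p : sp K (RedRank.TA K n) ⟶ sp K (RedRank.TA K r)),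
      p ≫ i' = i ∧ n ≤ r ∧ AGF.IsMaxTorus i' := by
  let P : ℕ → Prop := fun r => ∃ (i' : sp K (RedRank.TA K r) ⟶ G) (p : sp K (RedRank.TA K n) ⟶ sp K (RedRank.TA K r)),
    p ≫ i' = i ∧ IsMonHom i' ∧ Mono i'
  obtain ⟨b, hb⟩ := RedRank.exists_rank_bound G
  have hbdd : BddAbove {r | P r} := ⟨b, fun r ⟨i', _, _, h1, h2⟩ => hb r i' h1 h2⟩
  obtain ⟨r, ⟨i', p, hp, hi', hm'⟩, hmax⟩ : ∃ r, P r ∧ ∀ r', P r' → r' ≤ r :=
    ⟨sSup {r | P r}, Nat.sSup_mem (s := {r | P r}) ⟨n, i, 𝟙 _, Category.id_comp _, inferInstance, inferInstance⟩ hbdd,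
      fun r' h => le_csSup hbdd h⟩
  haveI := hi'; haveI := hm'
  obtain ⟨w, hw, hw'⟩ := TorusField.exists_DS_iso K (Fin r → ℤ)
  haveI := hw; haveI := hw'
  haveI : IsMonHom w.symm.hom := inferInstanceAs (IsMonHom w.inv)
  refine ⟨r, i', p, hp, hmax n ⟨i, 𝟙 _, Category.id_comp _, inferInstance, inferInstance⟩, inferInstance,
    inferInstance, RedRank.isTorus_of_iso w (RedRank.isTorus_DS _ r), fun T' _ j _ _ f hT' hf => ?_⟩
  obtain ⟨r', v', hv, hv', -⟩ := RedRank.exists_torus_rank hT'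
  haveI := hv; haveI := hv'
  haveI : IsMonHom (f ≫ j) := hf.symm ▸ inferInstance
  haveI : Mono (f ≫ j) := hf.symm ▸ inferInstance
  haveI : Mono f := mono_of_mono f j
  haveI : IsMonHom f := DiagRep.isMonHom_of_comp_mono f j
  obtain ⟨hle, hiso⟩ := RedRank.le_and_isIso_of_mono (f ≫ v'.inv)
  haveI := hiso (le_antisymm hle (hmax r' ⟨v'.hom ≫ j, p ≫ f ≫ v'.inv, by simp [hf, hp], inferInstance, inferInstance⟩))
  have : f = (f ≫ v'.inv) ≫ v'.hom := by simp
  rw [this]
  infer_instance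

/-- A torus and the centraliser of a subtorus: the rank of the group is at most the dimension of the centraliser. -/
theorem le_dim_centralizer (G : Over S) [GrpObj G] [IsAffineHom G.hom] [Smooth G.hom]
    {n : ℕ} (i : Red.DS S (Fin n → ℤ) ⟶ G) [IsMonHom i] [Mono i] {Z : Over S} [GrpObj Z] {c : Z ⟶ G}
    (hc : Red.IsCentralizerOf i c) (p : Spec (CommRingCat.of K) ⟶ S) :
    ∃ (r : ℕ) (j : sp K (RedRank.TA K r) ⟶ Red.bc p G) (k : sp K (RedRank.TA K r) ⟶ Red.bc p Z),
      k ≫ (Over.pullback p).map c = j ∧ IsMonHom j ∧ Mono j ∧ n ≤ r ∧ (∀ m, Has (Red.bc p G) m → m ≤ r) ∧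
      ∀ [IsSeparated Z.hom] [LocallyOfFiniteType Z.hom] [IsAffineHom Z.hom],
        (r : WithBot ℕ∞) ≤ topologicalKrullDim ↥(Red.bc p Z).left := by
  obtain ⟨e, he⟩ := RedCharZeroLib.exists_DS_bc p (Fin n → ℤ)
  obtain ⟨w, hw, hw'⟩ := TorusField.exists_DS_iso K (Fin n → ℤ)
  haveI := he; haveI := hw; haveI := hw'
  haveI : IsMonHom (M := Red.bc p (Red.DS S (Fin n → ℤ))) (N := Red.bc p G) ((Over.pullback p).map i) :=
    DiagRep.isMonHom_bc_map p i
  haveI : (Over.pullback p).IsRightAdjoint := (Over.mapPullbackAdj p).isRightAdjoint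
  haveI : Mono ((Over.pullback p).map i) := inferInstance
  haveI := RedRank.isAffineHom_bc G p
  haveI : Smooth (Red.bc p G).hom := MorphismProperty.pullback_snd (P := @Smooth) _ _ inferInstance
  obtain ⟨r, j, q, hq, hnr, hj⟩ := exists_maxTorus_ge (Red.bc p G) (w.hom ≫ e.hom ≫ (Over.pullback p).map i)
  haveI := hj.1; haveI := hj.2.1
  obtain ⟨-, hcm, hz⟩ := isCentralizerOf_bc hc p
  obtain ⟨w', hw2, hw2'⟩ := TorusField.exists_DS_iso K (Fin r → ℤ)
  haveI := hw2; haveI := hw2'
  haveI : IsCommMonObj (Red.DS (Spec (CommRingCat.of K)) (Fin r → ℤ)) := inferInstance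
  obtain ⟨k, hk⟩ := (hz _ j).2 fun X' x h => by
    let jd := w'.inv ≫ j
    have hx : x ≫ j = (x ≫ w'.hom) ≫ jd := by simp [jd]
    have hh : h ≫ (Over.pullback p).map i = (h ≫ e.inv ≫ w.inv ≫ q ≫ w'.hom) ≫ jd := by
      simp [jd, hq]
    haveI : IsMonHom jd := inferInstanceAs (IsMonHom (w'.inv ≫ j))
    rw [hx, hh, ← MonObj.mul_comp, ← MonObj.mul_comp, mul_comm]
  refine ⟨r, j, k, hk, inferInstance, inferInstance, hnr, fun m hm => ?_, fun {_ _ _} => ?_⟩
  · obtain ⟨t, ht, htm⟩ := (RedRank.has_iff _ m).1 (has_of_isMaxTorus G p hj hm)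
    haveI := ht; haveI := htm
    exact (RedRank.le_and_isIso_of_mono t).1
  · haveI : Mono (k ≫ (Over.pullback p).map c) := hk.symm ▸ inferInstance
    haveI : Mono k := mono_of_mono k ((Over.pullback p).map c)
    haveI : IsMonHom (k ≫ (Over.pullback p).map c) := hk.symm ▸ inferInstance
    haveI := hcm
    haveI : IsMonHom (M := Red.bc p Z) (N := Red.bc p G) ((Over.pullback p).map c) := by
      haveI := hc.1; exact DiagRep.isMonHom_bc_map p c
    haveI : IsMonHom k := DiagRep.isMonHom_of_comp_mono k ((Over.pullback p).map c)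
    haveI := RedRank.isAffineHom_bc Z p
    haveI : LocallyOfFiniteType (Red.bc p Z).hom := MorphismProperty.pullback_snd (P := @LocallyOfFiniteType) _ _ inferInstance
    haveI := RedRank.isClosedImmersion_of_mono_sp k
    rw [← RedRank.topologicalKrullDim_sp_TA (K := K) r]
    exact k.left.isClosedEmbedding.isInducing.topologicalKrullDim_le

/-- Near any point there is a split torus of the greatest rank, with a rational point over the given one. -/
theorem exists_local_torus (G : Over S) [GrpObj G] [IsAffineHom G.hom] [Smooth G.hom] (s : S) :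
    ∃ (r : ℕ) (S' : Scheme.{u}) (g : S' ⟶ S) (y : Spec (CommRingCat.of (AlgebraicClosure (S.residueField s))) ⟶ S')
      (i : Red.DS S' (Fin r → ℤ) ⟶ Red.bc g G), Etale g ∧ y ≫ g = Red.geomPt s ∧ IsMonHom i ∧ Mono i ∧
        ∀ m, Has (Red.geomFibre s G) m → m ≤ r := by
  haveI := RedRank.isAffineHom_bc G (Red.geomPt s)
  obtain ⟨n, hn⟩ := exists_has (Red.geomFibre s G)
  obtain ⟨r, j, hj, -, hd, hmax⟩ := RedRank.exists_maximal G (Red.geomPt s) hn
  obtain ⟨W, g, i, hg, hi, him, hcov⟩ := RedRank.exists_cover G r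
  haveI := hg; haveI := hi; haveI := him
  obtain ⟨S', g', s', hg', hs', k, rfl⟩ := EtSectLib.exists_section g s (hcov s ⟨j, hj.1, hj.2.1⟩)
  haveI := hg'
  obtain ⟨y₀, -, -⟩ := Scheme.Pullback.exists_preimage_pullback (f := k ≫ g) (g := Red.geomPt s) s'
    (IsLocalRing.closedPoint _) (hs'.trans (RedRank.geomPt_apply s).symm)
  obtain ⟨y', hy', -⟩ := RedRank.exists_field_point (pullback.snd (k ≫ g) (Red.geomPt s)) ⊤ ⟨y₀, trivial⟩
  obtain ⟨e, he⟩ := RedCharZeroLib.exists_DS_bc k (Fin r → ℤ)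
  obtain ⟨θ, hθ⟩ := RedCharZeroLib.exists_bc_comp k g G
  haveI := he; haveI := hθ
  haveI : IsMonHom θ.inv := inferInstance
  haveI : IsMonHom (M := Red.bc k (Red.DS W (Fin r → ℤ))) (N := Red.bc k (Red.bc g G))
      ((Over.pullback k).map i) := DiagRep.isMonHom_bc_map _ i
  haveI : Mono ((Over.pullback k).map i) := by
    haveI : (Over.pullback k).IsRightAdjoint := (Over.mapPullbackAdj k).isRightAdjoint
    infer_instance
  exact ⟨r, S', k ≫ g, y' ≫ pullback.fst _ _, e.hom ≫ (Over.pullback k).map i ≫ θ.inv, hg',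
    by rw [Category.assoc, pullback.condition, reassoc_of% hy'], inferInstance, inferInstance, hmax⟩

end MaxTorusRank
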