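import Groth.Agent.MaxTorusRankLib.Rank
import Groth.Agent.EtSectLib.Main

/-!
Locally constant reductive rank and maximal tori etale-locally.
-/

set_option autoImplicit false
set_option backward.isDefEq.respectTransparency false

noncomputable section

universe u

open CategoryTheory CategoryTheory.Limits MonoidalCategory CartesianMonoidalCategory AlgebraicGeometry CoactBr
open scoped MonObj

attribute [-instance] CategoryTheory.Hom.commGroup

namespace MaxTorusRank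

open Groth.Agent
open Groth.Agent.RedRank (Has)
open Groth.Agent.HomRep (bcEquiv)

variable {S : Scheme.{u}}

/-- Isomorphic groups have subtori of the same ranks. -/
theorem has_bc_DS_iff {L : Type u} [Field L] [IsAlgClosed L] {P : Scheme.{u}} (q : Spec (CommRingCat.of L) ⟶ P)
    (n m : ℕ) : Has (Red.bc q (Red.DS P (Fin n → ℤ))) m ↔ m ≤ n := by
  obtain ⟨e, he⟩ := RedCharZeroLib.exists_DS_bc q (Fin n → ℤ)
  obtain ⟨w, hw, hw'⟩ := TorusField.exists_DS_iso L (Fin n → ℤ)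
  haveI := he; haveI := hw; haveI := hw'
  haveI : IsMonHom e.inv := inferInstance
  refine ⟨fun h => ?_, fun h => ?_⟩
  · obtain ⟨j, hj, hjm⟩ := (RedRank.has_iff _ m).1 h
    haveI := hj; haveI := hjm
    exact (RedRank.le_and_isIso_of_mono (j ≫ e.inv ≫ w.inv)).1
  · obtain ⟨j, hj, hjm⟩ := RedRank.exists_subtorus (K := L) h
    haveI := hj; haveI := hjm
    exact (RedRank.has_iff _ m).2 ⟨j ≫ w.hom ≫ e.hom, inferInstance, inferInstance⟩

/-- Base change of an isomorphism preserves the subtori. -/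
theorem has_bc_iff_of_iso {P Q : Scheme.{u}} {X Y : Over P} [GrpObj X] [GrpObj Y] (e : X ≅ Y) [IsMonHom e.hom]
    (q : Q ⟶ P) (m : ℕ) : Has (Red.bc q X) m ↔ Has (Red.bc q Y) m := by
  haveI : IsMonHom e.inv := inferInstance
  haveI h1 : IsMonHom (M := Red.bc q X) (N := Red.bc q Y) ((Over.pullback q).map e.hom) := DiagRep.isMonHom_bc_map q e.hom
  haveI h2 : IsMonHom (M := Red.bc q Y) (N := Red.bc q X) ((Over.pullback q).map e.inv) := DiagRep.isMonHom_bc_map q e.inv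
  exact ⟨RedRank.has_mono (G := Red.bc q X) (G' := Red.bc q Y) ((Over.pullback q).map e.hom),
    RedRank.has_mono (G := Red.bc q Y) (G' := Red.bc q X) ((Over.pullback q).map e.inv)⟩

/-- The locus where a torus has given rank is open. -/
theorem isOpen_rank {T : Over S} [GrpObj T] (hT : Red.IsTorus T) (n : ℕ) :
    IsOpen {s : S | ∀ m, Has (Red.geomFibre s T) m ↔ m ≤ n} := by
  have hT' := hT
  obtain ⟨S', f, hflat, hsurj, hcov, hloc⟩ := hT'
  haveI := hflat; haveI := hsurj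
  choose U hU r he using hloc
  haveI : DescLib.Fpqc (Limits.Sigma.desc fun x => (U x).ι ≫ f) :=
    RepDescLib.fpqc_pieces f hcov U fun x => ⟨x, hU x⟩
  let Q : ↥S' → Scheme.{u} := fun x => (U x : Scheme.{u})
  let p : ∐ Q ⟶ S := Limits.Sigma.desc fun x => (U x).ι ≫ f
  refine DescLib.isOpen_of_isOpen_preimage p (isOpen_iff_forall_mem_open.2 fun z hz => ?_)
  obtain ⟨k, w, rfl⟩ : ∃ k w, Limits.Sigma.ι Q k w = z :=
    ⟨(sigmaOpenCover Q).idx z, (sigmaOpenCover Q).covers z⟩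
  have key : ∀ (w : Q k) (m : ℕ), Has (Red.geomFibre (p (Limits.Sigma.ι Q k w)) T) m ↔ m ≤ r k := by
    intro w m
    obtain ⟨r', hr'⟩ := exists_rank hT (p (Limits.Sigma.ι Q k w))
    let g : Q k ⟶ S := (U k).ι ≫ f
    have hpt : (Red.geomPt w ≫ g) (IsLocalRing.closedPoint _) = p (Limits.Sigma.ι Q k w) := by
      rw [Scheme.Hom.comp_apply, RedRank.geomPt_apply, ← Scheme.Hom.comp_apply (Limits.Sigma.ι Q k) p,
        Limits.Sigma.ι_desc]
    obtain ⟨e⟩ := he k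
    let e₁ : Red.bc g T ≅ Red.DS (Q k) (Fin (r k) → ℤ) := (Grp.forget _).mapIso e
    haveI : IsMonHom e₁.hom := e.hom.hom.isMonHom_hom
    have h1 : Has (Red.bc (Red.geomPt w) (Red.bc g T)) m ↔ m ≤ r k :=
      (has_bc_iff_of_iso e₁ (Red.geomPt w) m).trans (has_bc_DS_iff _ _ _)
    rw [has_bc_bc_iff, (hr' _ _ hpt).1] at h1
    exact ((hr' _ (Red.geomPt _) (RedRank.geomPt_apply _)).1 m).trans h1
  have hk : r k = n := le_antisymm ((hz (r k)).1 ((key w (r k)).2 le_rfl)) ((key w n).1 ((hz n).2 le_rfl))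
  refine ⟨Set.range (Limits.Sigma.ι Q k), ?_, (Limits.Sigma.ι Q k).isOpenEmbedding.isOpen_range, w, rfl⟩
  rintro _ ⟨w', rfl⟩
  exact fun m => hk ▸ key w' m

/-- A family of split tori on the pieces of a disjoint union gives a torus. -/
theorem exists_sigma_torus {ν : Type u} {Q : ν → Scheme.{u}} (G : Over (∐ Q)) [GrpObj G] (r : ν → ℕ)
    (i : ∀ k, Red.DS (Q k) (Fin (r k) → ℤ) ⟶ Red.bc (Limits.Sigma.ι Q k) G) [∀ k, IsMonHom (i k)]
    [∀ k, Mono (i k)] :
    ∃ (T : Over (∐ Q)) (_ : GrpObj T) (j : T ⟶ G), IsMonHom j ∧ Mono j ∧ Red.IsTorus T ∧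
      ∀ k, ∃ e : Red.DS (Q k) (Fin (r k) → ℤ) ≅ Red.bc (Limits.Sigma.ι Q k) T, IsMonHom e.hom := by
  let ϖ : ∀ k, Q k ⟶ ∐ Q := fun k => Limits.Sigma.ι Q k
  haveI : DescLib.Fpqc (Limits.Sigma.desc ϖ) := by
    rw [show Limits.Sigma.desc ϖ = 𝟙 (∐ Q) from Sigma.hom_ext _ _ fun k => by simp [ϖ]]
    infer_instance
  haveI : ∀ k, IsAffineHom (Red.DS (Q k) (Fin (r k) → ℤ)).hom := fun k =>
    MultEq.isAffineHom_of_isMultTypeFT (RedRank.isMultTypeFT_DS' _ _)
  obtain ⟨T, _, j, hj, hjm, -, -, he⟩ := RedRank.exists_descended (T'' := fun k => Red.DS (Q k) (Fin (r k) → ℤ))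
    G ϖ i (fun k l Z z => by
      rcases isEmpty_or_nonempty ↥Z.left with h | h
      · refine ⟨Over.homMk ((isInitialOfIsEmpty (X := Z.left)).to _) ((isInitialOfIsEmpty (X := Z.left)).hom_ext _ _), ?_⟩
        exact Over.OverMorphism.ext ((isInitialOfIsEmpty (X := Z.left)).hom_ext _ _)
      · haveI : Nonempty ↥((Over.map (ϖ l)).obj Z).left := h
        have hw := Over.w z
        simp only [Over.map_obj_hom, ← Category.assoc] at hw
        obtain rfl : k = l := DescLib.idx_eq (z.left ≫ (Red.DS (Q k) (Fin (r k) → ℤ)).hom) Z.hom hw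
        let a : Z ⟶ Red.DS (Q k) (Fin (r k) → ℤ) := Over.homMk z.left ((cancel_mono (ϖ k)).1 hw)
        refine ⟨a, ?_⟩
        rw [show z = (Over.map (ϖ k)).map a from Over.OverMorphism.ext rfl, ← Adjunction.homEquiv_naturality_left_symm,
          Equiv.apply_symm_apply])
  refine ⟨T, inferInstance, j, hj, hjm, ⟨∐ Q, 𝟙 _, inferInstance, inferInstance, RedRank.hcov_id _, fun x => ?_⟩,
    fun k => ⟨(he k).choose, (he k).choose_spec.1⟩⟩
  obtain ⟨k, w, rfl⟩ : ∃ k w, Limits.Sigma.ι Q k w = x :=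
    ⟨(sigmaOpenCover Q).idx x, (sigmaOpenCover Q).covers x⟩
  obtain ⟨e, he₁, -⟩ := he k
  let U := (Limits.Sigma.ι Q k).opensRange
  let l : (U : Scheme.{u}) ⟶ Q k := (Limits.Sigma.ι Q k).isoOpensRange.inv
  have hl : l ≫ Limits.Sigma.ι Q k = U.ι ≫ 𝟙 _ := by
    rw [Category.comp_id]
    exact Scheme.Hom.isoOpensRange_inv_comp _
  refine ⟨U, ⟨w, rfl⟩, r k, ?_⟩
  rw [← hl]
  obtain ⟨θ, hθ⟩ := RedCharZeroLib.exists_bc_comp l (Limits.Sigma.ι Q k) T
  obtain ⟨d, hd⟩ := RedCharZeroLib.exists_DS_bc l (Fin (r k) → ℤ)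
  haveI := he₁; haveI := hθ; haveI := hd
  haveI : IsMonHom e.inv := inferInstance
  haveI : IsMonHom d.inv := inferInstance
  haveI h1 : IsMonHom (M := Red.bc l (Red.bc (Limits.Sigma.ι Q k) T)) (N := Red.bc l (Red.DS (Q k) (Fin (r k) → ℤ)))
      ((Over.pullback l).map e.inv) := DiagRep.isMonHom_bc_map l e.inv
  let e' : Red.bc (l ≫ Limits.Sigma.ι Q k) T ≅ Red.DS (U : Scheme.{u}) (Fin (r k) → ℤ) :=
    θ ≪≫ (Over.pullback l).mapIso e.symm ≪≫ d.symm
  haveI : IsMonHom e'.hom := inferInstanceAs (IsMonHom (θ.hom ≫ (Over.pullback l).map e.inv ≫ d.inv))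
  exact ⟨Grp.mkIso e' (IsMonHom.one_hom e'.hom) (IsMonHom.mul_hom e'.hom)⟩

/-- If the reductive rank is locally constant, there are maximal tori etale-locally. -/
theorem maxTorusEtale_of_redRank (G : Over S) [GrpObj G] [IsAffineHom G.hom] [Smooth G.hom]
    (h : SGA3x.RedRankLocallyConstant G) : SGA3x.HasMaxTorusEtaleLocally G := by
  have hloc : ∀ s : S, ∃ (S' : Scheme.{u}) (g : S' ⟶ S) (n : ℕ)
      (i : Red.DS S' (Fin n → ℤ) ⟶ Red.bc g G), Etale g ∧ s ∈ Set.range g ∧ IsMonHom i ∧ Mono i ∧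
        ∀ (z : S') (m : ℕ), Has (Red.geomFibre (g z) G) m → m ≤ n := by
    intro s
    obtain ⟨U, hsU, r, hU⟩ := h s
    obtain ⟨n, rfl, hn⟩ := exists_nat_of_hasRedRank (hU s hsU)
    obtain ⟨W, g, i, hg, hi, him, hcov⟩ := RedRank.exists_cover G n
    haveI := hg; haveI := hi; haveI := him
    obtain ⟨S₁, g₁, s₁, hg₁, hs₁, k, rfl⟩ := EtSectLib.exists_section g s (hcov s ((hn n).2 le_rfl))
    let V : S₁.Opens := (k ≫ g) ⁻¹ᵁ U
    obtain ⟨e, he⟩ := RedCharZeroLib.exists_DS_bc (V.ι ≫ k) (Fin n → ℤ)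
    obtain ⟨θ, hθ⟩ := RedCharZeroLib.exists_bc_comp (V.ι ≫ k) g G
    haveI := he; haveI := hθ
    haveI : IsMonHom θ.inv := inferInstance
    haveI : IsMonHom (M := Red.bc (V.ι ≫ k) (Red.DS W (Fin n → ℤ))) (N := Red.bc (V.ι ≫ k) (Red.bc g G))
        ((Over.pullback (V.ι ≫ k)).map i) := DiagRep.isMonHom_bc_map _ i
    haveI : Mono ((Over.pullback (V.ι ≫ k)).map i) := by
      haveI : (Over.pullback (V.ι ≫ k)).IsRightAdjoint := (Over.mapPullbackAdj _).isRightAdjoint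
      infer_instance
    refine ⟨(V : Scheme.{u}), (V.ι ≫ k) ≫ g, n, e.hom ≫ (Over.pullback (V.ι ≫ k)).map i ≫ θ.inv,
      ?_, ?_, inferInstance, inferInstance, fun z m hm => ?_⟩
    · haveI := hg₁
      rw [Category.assoc]; infer_instance
    · refine ⟨⟨s₁, show (k ≫ g) s₁ ∈ U by rw [hs₁]; exact hsU⟩, ?_⟩
      rw [Category.assoc, Scheme.Hom.comp_apply]
      exact hs₁
    · have hz : ((V.ι ≫ k) ≫ g) z ∈ U := by
        rw [Category.assoc, Scheme.Hom.comp_apply]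
        exact z.2
      obtain ⟨n', hn', hall⟩ := exists_nat_of_hasRedRank (hU _ hz)
      obtain rfl : n = n' := by exact_mod_cast hn'
      exact (hall m).1 hm
  choose Q g r i hg hs hi him hle using hloc
  haveI := hg
  let f : ∐ Q ⟶ S := Limits.Sigma.desc g
  haveI : Etale f := IsZariskiLocalAtSource.sigmaDesc (P := @Etale) hg
  have hι : ∀ k, Limits.Sigma.ι Q k ≫ f = g k := fun k => Limits.Sigma.ι_desc _ _
  have hi' : ∀ k, ∃ i' : Red.DS (Q k) (Fin (r k) → ℤ) ⟶ Red.bc (Limits.Sigma.ι Q k) (Red.bc f G),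
      IsMonHom i' ∧ Mono i' := by
    intro k
    have h0 : Has (Red.bc (Limits.Sigma.ι Q k ≫ f) G) (r k) := by
      rw [hι]; exact ⟨i k, hi k, him k⟩
    obtain ⟨θ, hθ⟩ := RedCharZeroLib.exists_bc_comp (Limits.Sigma.ι Q k) f G
    haveI := hθ
    exact RedRank.has_mono θ.hom h0
  choose i' hi1 hi2 using hi'
  haveI := hi1; haveI := hi2
  obtain ⟨T, _, j, hj, hjm, hT, he⟩ := exists_sigma_torus (Red.bc f G) r i'
  haveI := hj; haveI := hjm
  refine ⟨∐ Q, f, inferInstance, ⟨fun s => ?_⟩, T, inferInstance, j, isMaximalTorus_of_forall hT fun x m hm => ?_⟩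
  · obtain ⟨w, hw⟩ := hs s
    exact ⟨Limits.Sigma.ι Q s w, by rw [← Scheme.Hom.comp_apply, hι]; exact hw⟩
  · obtain ⟨k, w, rfl⟩ : ∃ k w, Limits.Sigma.ι Q k w = x :=
      ⟨(sigmaOpenCover Q).idx x, (sigmaOpenCover Q).covers x⟩
    have hm' : Has (Red.bc (Red.geomPt (Limits.Sigma.ι Q k w) ≫ f) G) m := (has_bc_bc_iff G f _ m).1 hm
    have hpt : (Red.geomPt (Limits.Sigma.ι Q k w) ≫ f) (IsLocalRing.closedPoint _) = g k w := by
      rw [Scheme.Hom.comp_apply, RedRank.geomPt_apply, ← Scheme.Hom.comp_apply, hι]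
    have h1 : m ≤ r k := hle k w m ((has_congr G _ (Red.geomPt (g k w))
      (hpt.trans (RedRank.geomPt_apply _).symm) m).1 hm')
    obtain ⟨r', hr'⟩ := exists_rank hT (Limits.Sigma.ι Q k w)
    obtain ⟨e, he⟩ := he k
    haveI := he
    have h2 := ((has_bc_iff_of_iso e (Red.geomPt w) m).1 ((has_bc_DS_iff _ _ _).2 h1))
    have hpt' : (Red.geomPt w ≫ Limits.Sigma.ι Q k) (IsLocalRing.closedPoint _) = Limits.Sigma.ι Q k w := by
      rw [Scheme.Hom.comp_apply, RedRank.geomPt_apply]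
    exact ((hr' _ _ (RedRank.geomPt_apply _)).1 m).2
      (((hr' _ _ hpt').1 m).1 ((has_bc_bc_iff T _ _ m).1 h2))

/-- A maximal torus etale-locally makes the reductive rank locally constant. -/
theorem redRank_of_maxTorusEtale (G : Over S) [GrpObj G] [IsAffineHom G.hom] [Smooth G.hom]
    (h : SGA3x.HasMaxTorusEtaleLocally G) : SGA3x.RedRankLocallyConstant G := by
  obtain ⟨S', f, hf, hsurj, T, _, i, hi⟩ := h
  haveI := hf
  haveI := RedRank.isAffineHom_bc G f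
  haveI : Smooth (Red.bc f G).hom := MorphismProperty.pullback_snd (P := @Smooth) _ _ inferInstance
  intro s
  obtain ⟨z₀, rfl⟩ := hsurj.surj s
  obtain ⟨n, hn⟩ := exists_rank hi.2.2.1 z₀
  let V : S'.Opens := ⟨_, isOpen_rank hi.2.2.1 n⟩
  refine ⟨⟨f '' (V : Set S'), f.isOpenMap _ V.2⟩, ⟨z₀, fun m => (hn _ _ (RedRank.geomPt_apply z₀)).1 m, rfl⟩,
    (n : WithBot ℕ∞), ?_⟩
  rintro _ ⟨z, hz, rfl⟩
  refine hasRedRank_of_forall fun m => ?_
  rw [has_congr G (Red.geomPt (f z)) (Red.geomPt z ≫ f)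
    ((RedRank.geomPt_apply (f z)).trans (((Scheme.Hom.comp_apply _ f _).trans
      (congrArg (fun x => f x) (RedRank.geomPt_apply z))).symm)) m, ← has_bc_bc_iff]
  refine ⟨fun hm => (hz m).1 (has_of_isMaximalTorus hi (Red.geomPt z) hm), fun hm => ?_⟩
  haveI := hi.1; haveI := hi.2.1
  haveI : IsMonHom (M := Red.bc (Red.geomPt z) T) (N := Red.bc (Red.geomPt z) (Red.bc f G))
      ((Over.pullback (Red.geomPt z)).map i) := DiagRep.isMonHom_bc_map _ i
  haveI : Mono ((Over.pullback (Red.geomPt z)).map i) := by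
    haveI : (Over.pullback (Red.geomPt z)).IsRightAdjoint := (Over.mapPullbackAdj _).isRightAdjoint
    infer_instance
  exact RedRank.has_mono (G := Red.bc (Red.geomPt z) T) (G' := Red.bc (Red.geomPt z) (Red.bc f G))
    ((Over.pullback (Red.geomPt z)).map i) ((hz m).2 hm)

end MaxTorusRank
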